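import Groth.Agent.Lib.LinTopH7.Completion
import Mathlib.RingTheory.Finiteness.Ideal
import Mathlib.Topology.Algebra.UniformMulAction
import Mathlib.RingTheory.Ideal.Operations
import Mathlib.RingTheory.Ideal.Quotient.Basic

/-!
Completion of a module having an open adic submodule.
-/

open Filter Topology UniformSpace Pointwise

namespace Groth.Agent.LinTopH7

universe u v

variable {R : Type u} [CommRing R] {I : Ideal R} {M : Type v} [AddCommGroup M] [Module R M]
  [UniformSpace M] [IsUniformAddGroup M] [UniformContinuousConstSMul R M] (M' : Submodule R M)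

theorem nonarchimedean (hopen : ∀ n : ℕ, IsOpen ((I ^ n • M' : Submodule R M) : Set M))
    (hbasis : ∀ U ∈ 𝓝 (0 : M), ∃ n : ℕ, ((I ^ n • M' : Submodule R M) : Set M) ⊆ U) :
    NonarchimedeanAddGroup M :=
  ⟨fun U hU => by
    obtain ⟨n, hn⟩ := hbasis U hU
    exact ⟨⟨(I ^ n • M').toAddSubgroup, hopen n⟩, hn⟩⟩

/-- The closure in the completion of the image of a submodule. -/
noncomputable def clMod (N : Submodule R M) : Submodule R (Completion M) :=
  { cl N.toAddSubgroup with
    smul_mem' := fun r x hx => by
      refine map_mem_closure (f := fun z : Completion M => r • z) (continuous_const_smul r)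
        (show x ∈ closure _ from hx) ?_
      rintro _ ⟨a, ha, rfl⟩
      exact ⟨r • a, N.smul_mem r ha, Completion.coe_smul r a⟩ }

theorem mem_clMod {N : Submodule R M} {x : Completion M} :
    x ∈ clMod N ↔ x ∈ cl N.toAddSubgroup := Iff.rfl

theorem exists_sum_of_mem_smul {J : Ideal R} {s : ℕ} {a : Fin s → R}
    (ha : Ideal.span (Set.range a) = J) (N : Submodule R M) {m : M} (hm : m ∈ J • N) :
    ∃ x : Fin s → M, (∀ i, x i ∈ N) ∧ ∑ i, a i • x i = m := by
  induction hm using Submodule.smul_induction_on' with
  | smul r hr z hz =>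
    obtain ⟨c, hc⟩ := Ideal.mem_span_range_iff_exists_fun.mp (ha ▸ hr)
    refine ⟨fun i => c i • z, fun i => N.smul_mem _ hz, ?_⟩
    simp only [smul_smul, ← Finset.sum_smul, mul_comm (a _), hc]
  | add x _ y _ hx hy =>
    obtain ⟨c, hc, hcx⟩ := hx
    obtain ⟨d, hd, hdy⟩ := hy
    exact ⟨fun i => c i + d i, fun i => add_mem (hc i) (hd i),
      by simp only [smul_add, Finset.sum_add_distrib, hcx, hdy]⟩

/-- `I ^ n` times the closure of the submodule is the closure of its `I ^ n` multiple. -/
theorem clMod_pow_smul (hI : I.FG)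
    (hopen : ∀ n : ℕ, IsOpen ((I ^ n • M' : Submodule R M) : Set M))
    (hbasis : ∀ U ∈ 𝓝 (0 : M), ∃ n : ℕ, ((I ^ n • M' : Submodule R M) : Set M) ⊆ U) (n : ℕ) :
    I ^ n • clMod M' = clMod (I ^ n • M') := by
  refine le_antisymm (Submodule.smul_le.mpr fun r hr x hx => ?_) fun y hy => ?_
  · refine map_mem_closure (f := fun z : Completion M => r • z) (continuous_const_smul r)
      (show x ∈ closure _ from hx) ?_
    rintro _ ⟨a, ha, rfl⟩
    exact ⟨r • a, Submodule.smul_mem_smul hr ha, Completion.coe_smul r a⟩
  · obtain ⟨s, a, ha⟩ := Submodule.fg_iff_exists_fin_generating_family.mp (hI.pow (n := n))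
    let q : (Fin s → M) →+ M :=
      { toFun := fun x => ∑ i, a i • x i
        map_zero' := by simp
        map_add' := fun x y => by simp [smul_add, Finset.sum_add_distrib] }
    have hq : Continuous q :=
      continuous_finsetSum (f := fun i (x : Fin s → M) => a i • x i) Finset.univ fun i _ =>
        (continuous_apply i).const_smul (a i)
    let U : ℕ → AddSubgroup (Fin s → M) := fun k =>
      AddSubgroup.pi Set.univ fun _ => (I ^ k • M').toAddSubgroup
    have hanti : Antitone fun k => (U k : Set (Fin s → M)) := fun i j hij x hx l _ =>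
      Submodule.smul_mono (Ideal.pow_le_pow_right hij) le_rfl (hx l trivial)
    have hUn : ∀ k, (U k : Set (Fin s → M)) ∈ 𝓝 0 := fun k => by
      rw [AddSubgroup.coe_pi]
      exact (isOpen_set_pi Set.finite_univ fun i _ => hopen k).mem_nhds fun i _ => zero_mem _
    have hU : (𝓝 (0 : Fin s → M)).HasAntitoneBasis fun k => (U k : Set (Fin s → M)) := by
      refine ⟨⟨fun t => ⟨fun ht => ?_, fun ⟨k, _, hk⟩ => mem_of_superset (hUn k) hk⟩⟩, hanti⟩
      rw [nhds_pi, Filter.mem_pi] at ht
      obtain ⟨S, hS, V, hV, hVt⟩ := ht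
      choose k hk using fun i => hbasis (V i) (hV i)
      refine ⟨Finset.univ.sup k, trivial, fun x hx => hVt fun i _ => hk i ?_⟩
      exact Submodule.smul_mono (Ideal.pow_le_pow_right (Finset.le_sup (Finset.mem_univ i))) le_rfl
        (hx i trivial)
    have hmap : ∀ k, (U k).map q = (I ^ (n + k) • M').toAddSubgroup := by
      intro k
      refine le_antisymm ?_ fun m hm => ?_
      · rintro _ ⟨x, hx, rfl⟩
        show ∑ i, a i • x i ∈ I ^ (n + k) • M'
        refine Submodule.sum_mem _ fun i _ => ?_
        rw [pow_add, ← Ideal.smul_eq_mul, Submodule.smul_assoc]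
        exact Submodule.smul_mem_smul (ha ▸ Ideal.subset_span ⟨i, rfl⟩) (hx i trivial)
      · rw [Submodule.mem_toAddSubgroup, pow_add, ← Ideal.smul_eq_mul, Submodule.smul_assoc] at hm
        obtain ⟨x, hx, hxm⟩ := exists_sum_of_mem_smul ha _ hm
        exact ⟨x, fun i _ => hx i, hxm⟩
    have ho : IsOpenMap q := by
      refine IsOpenMap.of_nhds_le fun x V hV => ?_
      have hV' : (fun z => x + z) ⁻¹' (q ⁻¹' V) ∈ 𝓝 (0 : Fin s → M) :=
        (continuous_const_add x).continuousAt.preimage_mem_nhds (by rwa [add_zero])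
      obtain ⟨k, -, hk⟩ := hU.toHasBasis.mem_iff.mp hV'
      have hnhds : (fun w => w - q x) ⁻¹' ((I ^ (n + k) • M' : Submodule R M) : Set M) ∈ 𝓝 (q x) :=
        (continuous_id.sub continuous_const).continuousAt.preimage_mem_nhds
          (by simpa using (hopen (n + k)).mem_nhds (zero_mem _))
      refine mem_of_superset hnhds fun w hw => ?_
      have hw' : w - q x ∈ (U k).map q := (hmap k).symm ▸ hw
      obtain ⟨d, hd, hdw⟩ := hw'
      have := hk hd
      simp only [Set.mem_preimage, map_add, hdw, add_sub_cancel] at this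
      exact this
    haveI : NonarchimedeanAddGroup M := nonarchimedean M' hopen hbasis
    obtain ⟨x, hx, hxy⟩ := exists_lift q hq ho U hU 0
      (y := y) (by rw [hmap, add_zero]; exact hy)
    let p : Fin s → (Fin s → M) →+ M := fun i => Pi.evalAddMonoidHom (fun _ => M) i
    have hp : ∀ i, Continuous (p i) := fun i => continuous_apply i
    have hdec : ⇑(AddMonoidHom.completion q hq) =
        fun z => ∑ i, a i • AddMonoidHom.completion (p i) (hp i) z := by
      refine Completion.ext (q.continuous_completion hq) (continuous_finsetSum _ fun i _ =>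
        ((p i).continuous_completion (hp i)).const_smul (a i)) fun z => ?_
      simp only [AddMonoidHom.completion_coe, ← Completion.coe_smul]
      exact map_sum Completion.toCompl (fun i => a i • z i) Finset.univ
    rw [← hxy, hdec]
    refine Submodule.sum_mem _ fun i _ => Submodule.smul_mem_smul (ha ▸ Ideal.subset_span ⟨i, rfl⟩) ?_
    have h1 := completion_mem_cl (p i) (hp i) hx
    refine closure_mono (Set.image_mono ?_) (show _ ∈ closure _ from h1)
    rintro _ ⟨z, hz, rfl⟩
    have := hz i trivial
    replace this : z i ∈ I ^ 0 • M' := this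
    rw [pow_zero, Ideal.one_eq_top, Submodule.top_smul] at this
    exact this

theorem exists_sub_mem {N : AddSubgroup M} (hN : (N : Set M) ∈ 𝓝 0) (y : Completion M) :
    ∃ m : M, y - m ∈ cl N := by
  have hopen : IsOpen {w : Completion M | y - w ∈ cl N} :=
    (isOpen_cl hN).preimage (continuous_const.sub continuous_id)
  obtain ⟨w, hw⟩ := (Completion.denseRange_coe (α := M)).exists_mem_open hopen ⟨y, by simp⟩
  exact ⟨w, hw⟩

end Groth.Agent.LinTopH7
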