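import Mathlib.Topology.Algebra.GroupCompletion
import Mathlib.Topology.Algebra.LinearTopology
import Mathlib.Topology.Algebra.Nonarchimedean.Completion
import Mathlib.Topology.Algebra.IsUniformGroup.Basic

/-!
Completion of a quotient of a nonarchimedean abelian group.
-/

open Filter Topology UniformSpace Pointwise

namespace Groth.Agent.LinTopH7

universe u v

variable {G : Type u} [AddCommGroup G] [UniformSpace G] [IsUniformAddGroup G]
  {Q : Type v} [AddCommGroup Q] [UniformSpace Q] [IsUniformAddGroup Q]

/-- The closure in the completion of the image of a subgroup. -/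
noncomputable def cl (U : AddSubgroup G) : AddSubgroup (Completion G) :=
  (U.map Completion.toCompl).topologicalClosure

theorem coe_cl (U : AddSubgroup G) :
    (cl U : Set (Completion G)) = closure (((↑) : G → Completion G) '' (U : Set G)) := rfl

theorem mem_cl (U : AddSubgroup G) {x : G} (hx : x ∈ U) : (x : Completion G) ∈ cl U :=
  subset_closure ⟨x, hx, rfl⟩

theorem cl_mem_nhds {U : AddSubgroup G} (hU : (U : Set G) ∈ 𝓝 0) :
    (cl U : Set (Completion G)) ∈ 𝓝 0 := by
  have := (Completion.isDenseInducing_toCompl G).closure_image_mem_nhds hU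
  rwa [map_zero] at this

theorem isOpen_cl {U : AddSubgroup G} (hU : (U : Set G) ∈ 𝓝 0) :
    IsOpen (cl U : Set (Completion G)) :=
  AddSubgroup.isOpen_of_mem_nhds _ (cl_mem_nhds hU)

theorem isClosed_cl (U : AddSubgroup G) : IsClosed (cl U : Set (Completion G)) :=
  AddSubgroup.isClosed_topologicalClosure _

theorem mem_of_coe_mem_cl {U : AddSubgroup G} (hU : (U : Set G) ∈ 𝓝 0) {x : G}
    (hx : (x : Completion G) ∈ cl U) : x ∈ U := by
  have hclosed : IsClosed (U : Set G) :=
    AddSubgroup.isClosed_of_isOpen _ (AddSubgroup.isOpen_of_mem_nhds _ hU)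
  have h : x ∈ closure (U : Set G) := by
    rw [(Completion.isDenseInducing_toCompl G).isInducing.closure_eq_preimage_closure_image]
    exact hx
  rwa [hclosed.closure_eq] at h

theorem exists_cl_subset [NonarchimedeanAddGroup G] {V : Set (Completion G)} (hV : V ∈ 𝓝 0) :
    ∃ U : AddSubgroup G, (U : Set G) ∈ 𝓝 0 ∧ (cl U : Set (Completion G)) ⊆ V := by
  obtain ⟨C, hC0, hC, hCV⟩ := exists_mem_nhds_isClosed_subset hV
  have : ((↑) : G → Completion G) ⁻¹' C ∈ 𝓝 0 :=
    (Completion.continuous_coe G).continuousAt.preimage_mem_nhds (by rwa [Completion.coe_zero])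
  obtain ⟨W, hW⟩ := NonarchimedeanAddGroup.is_nonarchimedean _ this
  exact ⟨W.toAddSubgroup, W.mem_nhds_zero,
    (closure_minimal (Set.image_subset_iff.mpr hW) hC).trans hCV⟩

variable (q : G →+ Q) (hq : Continuous q)

theorem map_eq_completion : ⇑(AddMonoidHom.completion q hq) = Completion.map q :=
  Completion.ext (q.continuous_completion hq) Completion.continuous_map fun a => by
    rw [q.completion_coe hq, Completion.map_coe (uniformContinuous_addMonoidHom_of_continuous hq)]

theorem completion_mem_cl {U : AddSubgroup G} {x : Completion G} (hx : x ∈ cl U) :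
    AddMonoidHom.completion q hq x ∈ cl (U.map q) := by
  refine map_mem_closure (q.continuous_completion hq) (show x ∈ closure _ from hx) ?_
  rintro _ ⟨a, ha, rfl⟩
  exact ⟨q a, ⟨a, ha, rfl⟩, (q.completion_coe hq a).symm⟩

variable {q} in
theorem map_mem_nhds (ho : IsOpenMap q) {U : AddSubgroup G} (hU : (U : Set G) ∈ 𝓝 0) :
    ((U.map q : AddSubgroup Q) : Set Q) ∈ 𝓝 0 := by
  rw [AddSubgroup.coe_map, ← map_zero q]
  exact ho.image_mem_nhds hU

include hq in
/-- The kernel of the completed map is the closure of the kernel. -/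
theorem ker_completion [NonarchimedeanAddGroup G] (ho : IsOpenMap q) :
    Completion.map q ⁻¹' {0} = closure (((↑) : G → Completion G) '' (q.ker : Set G)) := by
  rw [← map_eq_completion q hq]
  refine subset_antisymm (fun x hx => ?_) (closure_minimal ?_ ?_)
  · rw [mem_closure_iff_nhds]
    intro V hV
    have hV' : (fun z => x + z) ⁻¹' V ∈ 𝓝 (0 : Completion G) :=
      (continuous_const_add x).continuousAt.preimage_mem_nhds (by rwa [add_zero])
    obtain ⟨U, hU, hUV⟩ := exists_cl_subset hV'
    have hopen : IsOpen {z : Completion G | z - x ∈ cl U} :=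
      (isOpen_cl hU).preimage (continuous_id.sub continuous_const)
    obtain ⟨m, hm⟩ := (Completion.denseRange_coe (α := G)).exists_mem_open hopen ⟨x, by simp⟩
    have h1 := completion_mem_cl q hq hm
    rw [map_sub, show AddMonoidHom.completion q hq x = 0 from hx, sub_zero, q.completion_coe hq] at h1
    obtain ⟨n, hn, hnm⟩ := mem_of_coe_mem_cl (map_mem_nhds ho hU) h1
    refine ⟨((m - n : G) : Completion G), ?_, ⟨m - n, by simp [hnm], rfl⟩⟩
    have : ((m - n : G) : Completion G) = x + (((m : Completion G) - x) - (n : Completion G)) := by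
      rw [Completion.coe_sub]; abel
    rw [this]
    exact hUV (sub_mem hm (mem_cl U hn))
  · rintro _ ⟨a, ha, rfl⟩
    simp only [Set.mem_preimage, Set.mem_singleton_iff]
    rw [q.completion_coe hq, show q a = 0 from ha, Completion.coe_zero]
  · exact isClosed_singleton.preimage (q.continuous_completion hq)

/-- A series with terms in smaller and smaller subgroups converges. -/
theorem exists_lift (ho : IsOpenMap q) (U : ℕ → AddSubgroup G)
    (hU : (𝓝 (0 : G)).HasAntitoneBasis (fun n => (U n : Set G))) (n : ℕ)
    {y : Completion Q} (hy : y ∈ cl ((U n).map q)) :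
    ∃ x ∈ cl (U n), AddMonoidHom.completion q hq x = y := by
  classical
  have hanti : ∀ {i j}, i ≤ j → U j ≤ U i := fun h => hU.antitone h
  have hUn : ∀ i, (U i : Set G) ∈ 𝓝 0 := fun i => hU.toHasBasis.mem_of_mem trivial
  have step : ∀ i (z : Completion Q), z ∈ cl ((U i).map q) →
      ∃ m ∈ U i, z - (q m : Completion Q) ∈ cl ((U (i + 1)).map q) := by
    intro i z hz
    have hopen : IsOpen {w : Completion Q | z - w ∈ cl ((U (i + 1)).map q)} :=
      (isOpen_cl (map_mem_nhds ho (hUn _))).preimage (continuous_const.sub continuous_id)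
    obtain ⟨_, hw, _, ⟨m, hm, rfl⟩, rfl⟩ :=
      mem_closure_iff.mp (show z ∈ closure _ from hz) _ hopen (by simp)
    exact ⟨m, hm, hw⟩
  choose g hg hgz using step
  let z : (k : ℕ) → {z : Completion Q // z ∈ cl ((U (n + k)).map q)} := fun k =>
    Nat.rec ⟨y, hy⟩ (fun k w => ⟨w.1 - (q (g (n + k) w.1 w.2) : Completion Q), hgz (n + k) w.1 w.2⟩) k
  let s : ℕ → G := fun k => ∑ j ∈ Finset.range k, g (n + j) (z j).1 (z j).2
  have hs : ∀ k, (z k).1 = y - (q (s k) : Completion Q) := by
    intro k
    induction k with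
    | zero => simp [z, s, Completion.coe_zero]
    | succ k ih =>
      show (z k).1 - _ = _
      simp only [s, Finset.sum_range_succ, map_add, Completion.coe_add]
      rw [sub_add_eq_sub_sub]
      exact congrArg (· - _) ih
  have hdiff : ∀ k l, k ≤ l → s l - s k ∈ U (n + k) := by
    intro k l hkl
    induction l, hkl using Nat.le_induction with
    | base => simp
    | succ l hl ih =>
      simp only [s, Finset.sum_range_succ] at ih ⊢
      rw [add_sub_right_comm]
      exact add_mem ih (hanti (by omega) (hg _ _ _))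
  have hc : CauchySeq (fun k => (s k : Completion G)) := by
    refine (Completion.uniformContinuous_coe G).comp_cauchySeq ?_
    have hb := hU.toHasBasis.comap (fun p : G × G => p.2 - p.1)
    rw [← uniformity_eq_comap_nhds_zero G] at hb
    refine hb.cauchySeq_iff.mpr fun i _ => ⟨i, fun a ha b hb' => ?_⟩
    show s b - s a ∈ U i
    rw [show s b - s a = (s b - s i) - (s a - s i) by abel]
    exact sub_mem (hanti (by omega) (hdiff i b hb')) (hanti (by omega) (hdiff i a ha))
  obtain ⟨x, hx⟩ := cauchySeq_tendsto_of_complete hc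
  refine ⟨x, (isClosed_cl _).mem_of_tendsto hx (Eventually.of_forall fun k => ?_), ?_⟩
  · refine mem_cl _ ?_
    have := hdiff 0 k (Nat.zero_le k)
    simpa [s] using this
  · refine tendsto_nhds_unique (((q.continuous_completion hq).tendsto x).comp hx) ?_
    rw [tendsto_def]
    intro V hV
    have hV' : (fun w => y - w) ⁻¹' V ∈ 𝓝 (0 : Completion Q) :=
      (continuous_const.sub continuous_id).continuousAt.preimage_mem_nhds (by simpa using hV)
    obtain ⟨C, hC0, hC, hCV⟩ := exists_mem_nhds_isClosed_subset hV'
    have hpre : (fun a : G => (q a : Completion Q)) ⁻¹' C ∈ 𝓝 0 :=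
      ((Completion.continuous_coe Q).comp hq).continuousAt.preimage_mem_nhds (by simpa [Completion.coe_zero] using hC0)
    obtain ⟨i, -, hi⟩ := hU.toHasBasis.mem_iff.mp hpre
    refine mem_atTop_sets.mpr ⟨i, fun k hk => ?_⟩
    have h1 : (z k).1 ∈ C := by
      refine closure_minimal ?_ hC (show (z k).1 ∈ closure _ from (z k).2)
      rintro _ ⟨_, ⟨a, ha, rfl⟩, rfl⟩
      exact hi (hanti (by omega) ha)
    have h2 := hCV h1
    simp only [Set.mem_preimage, hs, sub_sub_cancel] at h2
    show AddMonoidHom.completion q hq (s k : Completion G) ∈ V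
    rwa [q.completion_coe hq]

include hq in
/-- Surjectivity and openness of the completed map in the first countable case. -/
theorem surjective_isOpenMap [NonarchimedeanAddGroup G] [(𝓝 (0 : G)).IsCountablyGenerated]
    (ho : IsOpenMap q) (hs : Function.Surjective q) :
    Function.Surjective (Completion.map q) ∧ IsOpenMap (Completion.map q) := by
  rw [← map_eq_completion q hq]
  obtain ⟨b, -, hb⟩ := (show (𝓝 (0 : G)).HasBasis (fun U : OpenAddSubgroup G => True)
      (fun U => (U : Set G)) from ⟨fun t => ⟨fun ht =>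
        let ⟨V, hV⟩ := NonarchimedeanAddGroup.is_nonarchimedean t ht
        ⟨V, trivial, hV⟩, fun ⟨V, _, hV⟩ => mem_of_superset V.mem_nhds_zero hV⟩⟩).exists_antitone_subbasis
  have hb' : (𝓝 (0 : G)).HasAntitoneBasis (fun n => ((b n).toAddSubgroup : Set G)) := hb
  have lift := fun n y hy => exists_lift q hq ho (fun n => (b n).toAddSubgroup) hb' n (y := y) hy
  refine ⟨fun y => ?_, IsOpenMap.of_nhds_le fun x => ?_⟩
  · have hopen : IsOpen {w : Completion Q | y - w ∈ cl ((b 0).toAddSubgroup.map q)} :=
      (isOpen_cl (map_mem_nhds ho (b 0).mem_nhds_zero)).preimage (continuous_const.sub continuous_id)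
    obtain ⟨w, hw⟩ := (Completion.denseRange_coe (α := Q)).exists_mem_open hopen ⟨y, by simp⟩
    obtain ⟨m, rfl⟩ := hs w
    obtain ⟨x, -, hx⟩ := lift 0 _ hw
    refine ⟨x + m, ?_⟩
    rw [map_add, hx, q.completion_coe hq, sub_add_cancel]
  · intro V hV
    rw [Filter.mem_map] at hV
    have hV' : (fun z => x + z) ⁻¹' (⇑(AddMonoidHom.completion q hq) ⁻¹' V) ∈ 𝓝 (0 : Completion G) :=
      (continuous_const_add x).continuousAt.preimage_mem_nhds (by rwa [add_zero])
    obtain ⟨U, hU, hUV⟩ := exists_cl_subset hV'
    obtain ⟨n, -, hn⟩ := hb'.toHasBasis.mem_iff.mp hU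
    have hnhds : (fun w => w - AddMonoidHom.completion q hq x) ⁻¹'
        (cl ((b n).toAddSubgroup.map q) : Set (Completion Q)) ∈ 𝓝 (AddMonoidHom.completion q hq x) :=
      (continuous_id.sub continuous_const).continuousAt.preimage_mem_nhds
        (by simpa using cl_mem_nhds (map_mem_nhds ho (b n).mem_nhds_zero))
    refine mem_of_superset hnhds fun w hw => ?_
    obtain ⟨d, hd, hdw⟩ := lift n _ hw
    have := hUV (closure_mono (Set.image_mono hn) (show d ∈ closure _ from hd))
    simp only [Set.mem_preimage, map_add, hdw] at this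
    simpa using this

end Groth.Agent.LinTopH7
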